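-- Local structure of a simple group of order 504.
--
-- * `eight_le_index`, `card_centralizer_seven`, `inf_three_eq_bot`, `centralizer_le_sylow_three`
-- * `sylow_two`: nine elementary abelian Sylow 2-subgroups, meeting trivially
import Cfsg.Agent.Lib.SmallOrders.SqSylow
import Cfsg.Agent.Lib.SmallOrders.Check2
import Cfsg.Agent.Lib.SmallOrders.Count
import Cfsg.Agent.Lib.SmallOrders.TwoPoint.SylowTI

set_option autoImplicit false

namespace Cfsg.Agent.SmallOrders.S504

open Subgroup

variable {G : Type*} [Group G] [Finite G] [IsSimpleGroup G]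

theorem not_comm (h : Nat.card G = 504) : ¬ IsMulCommutative G :=
  not_isMulCommutative_of_card (by rw [h]; norm_num)

theorem eight_le_index (h : Nat.card G = 504) {M : Subgroup G} (hM : M ≠ ⊤) : 8 ≤ M.index := by
  have hG := not_comm h
  have h5 := five_le_index hG hM
  by_contra hle
  have h6 := two_mul_card_dvd_factorial_index hG hM
  rw [h] at h6
  rcases (show M.index = 5 ∨ M.index = 6 ∨ M.index = 7 by omega) with e | e | e
  · rw [e] at h6; revert h6; decide
  · rw [e] at h6; revert h6; decide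
  obtain ⟨f, hf⟩ := exists_injective_alternating hG M hM
  have hA : Nat.card (alternatingGroup (Fin M.index)) = 2520 := by
    rw [card_alternatingGroup_fin, e]; rfl
  have hc : Nat.card f.range = 504 := by
    rw [← h]; exact (Nat.card_congr (MonoidHom.ofInjective hf).toEquiv).symm
  have hidx : f.range.index = 5 := by
    have := f.range.card_mul_index
    rw [hc, hA] at this
    omega
  have : IsSimpleGroup (alternatingGroup (Fin M.index)) :=
    alternatingGroup.isSimpleGroup (by simp [e])
  have h8 := two_mul_card_dvd_factorial_index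
    (not_isMulCommutative_of_card (by rw [hA]; norm_num)) (H := f.range)
    fun ht => by rw [ht, index_top] at hidx; omega
  rw [hidx, hA] at h8
  revert h8; decide

theorem card_centralizer_seven [Fact (Nat.Prime 7)] (h : Nat.card G = 504) {y : G}
    (hy : orderOf y = 7) : Nat.card (centralizer ({y} : Set G)) = 7 := by
  have hG := not_comm h
  have hfac : Nat.card G = 7 ^ 1 * 72 := by rw [h]; norm_num
  have hP : ∀ P : Sylow 7 G, Nat.card (P : Subgroup G) = 7 := fun P => by
    rw [card_sylow_subgroup hfac (by norm_num) P, pow_one]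
  obtain ⟨P, hPy⟩ := exists_sylow_eq_zpowers hP hy
  have hdm : Nat.card (Sylow 7 G) ∣ 72 := index_sylow hfac (by norm_num) P ▸ P.card_dvd_index
  have hmod : Nat.card (Sylow 7 G) % 7 = 1 := card_sylow_modEq_one 7 G
  have hone := one_lt_card_sylow hG (p := 7) (by rw [h]; norm_num)
  have hbad := badCand_false hG (p := 7) (e := 1) one_ne_zero hfac (by norm_num)
  have hd : ∀ d, d ∣ 72 → d % 7 = 1 → d = 1 ∨ d = 8 ∨ d = 36 := by
    intro d hd h7
    have := Nat.le_of_dvd (by norm_num) hd
    interval_cases d <;> omega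
  rcases hd _ hdm hmod with e | e | e
  · omega
  · rw [e, h] at hbad; exact absurd hbad (by decide +kernel)
  · have hN := card_normalizer_mul_card_sylow P
    obtain ⟨j, hj1, -, hCj, hC7, -⟩ := exists_card_centralizer_mul hG hy P hPy
    rw [e, h, ← hCj] at hN
    obtain ⟨c, hc⟩ := hC7
    rw [hc] at hN ⊢
    have hcj : c * j = 2 := by
      have : 7 * (c * j) * 36 = 504 := by rw [← hN]; ring
      omega
    rcases Nat.prime_two.eq_one_or_self_of_dvd c ⟨j, hcj.symm⟩ with rfl | rfl <;> omega

variable [Fact (Nat.Prime 3)] [Fact (Nat.Prime 7)] [Fact (Nat.Prime 2)]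

theorem card_sylow_three (h : Nat.card G = 504) (P : Sylow 3 G) :
    Nat.card (P : Subgroup G) = 3 ^ 2 :=
  card_sylow_subgroup (p := 3) (e := 2) (m := 56) (by rw [h]; norm_num) (by norm_num) P

theorem n_three (h : Nat.card G = 504) : Nat.card (Sylow 3 G) = 28 := by
  have hG := not_comm h
  have hfac : Nat.card G = 3 ^ 2 * 56 := by rw [h]; norm_num
  obtain ⟨P⟩ := (inferInstance : Nonempty (Sylow 3 G))
  have hdm : Nat.card (Sylow 3 G) ∣ 56 := index_sylow hfac (by norm_num) P ▸ P.card_dvd_index
  have hmod : Nat.card (Sylow 3 G) % 3 = 1 := card_sylow_modEq_one 3 G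
  have hone := one_lt_card_sylow hG (p := 3) (by rw [h]; norm_num)
  have h8 := eight_le_index h (normalizer_sylow_ne_top hG (by rw [h]; norm_num) P)
  have h8' : 8 ≤ Nat.card (Sylow 3 G) := P.card_eq_index_normalizer.symm ▸ h8
  have hd : ∀ d, d ∣ 56 → d % 3 = 1 → d = 1 ∨ d = 4 ∨ d = 7 ∨ d = 28 := by
    intro d hd h7
    have := Nat.le_of_dvd (by norm_num) hd
    interval_cases d <;> omega
  have := hd _ hdm hmod
  omega

theorem inf_three_eq_bot (h : Nat.card G = 504) {P Q : Sylow 3 G} (hPQ : P ≠ Q) :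
    (P : Subgroup G) ⊓ (Q : Subgroup G) = ⊥ := by
  have hG := not_comm h
  by_contra hne
  obtain ⟨M, hM, t, hcard, hdvd, hlt, hPM⟩ := exists_normalizer_inter hG (card_sylow_three h) hPQ hne
  have hidx := eight_le_index h hM
  have hmul := M.card_mul_index
  rw [h, hcard] at hmul
  have h1 : t * M.index = 56 := by
    have : 9 * (t * M.index) = 9 * 56 := by rw [← mul_assoc]; simpa using hmul
    omega
  have hmod : Nat.card (Sylow 3 M) % 3 = 1 := card_sylow_modEq_one 3 M
  have h2 : t * 8 ≤ 56 := h1 ▸ Nat.mul_le_mul_left t hidx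
  have h3 : Nat.card (Sylow 3 M) ≤ t :=
    Nat.le_of_dvd (Nat.pos_of_ne_zero fun h0 => by simp [h0] at h1) hdvd
  have htt : (t = 4 ∧ Nat.card (Sylow 3 M) = 4) ∨ t = 7 := by
    have ht' : t ∣ 56 := ⟨M.index, h1.symm⟩
    have : t ≤ 7 := by omega
    interval_cases t <;> interval_cases (Nat.card (Sylow 3 M)) <;> omega
  rcases htt with ⟨rfl, hn4⟩ | rfl
  · set P' := P.subtype hPM
    have hP' : Nat.card (P' : Subgroup M) = 3 ^ 2 := by
      rw [P.coe_subtype hPM, Nat.card_congr (subgroupOfEquivOfLe hPM).toEquiv, card_sylow_three h]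
    have hidx' : (P' : Subgroup M).index = 4 := by
      have := (P' : Subgroup M).card_mul_index
      rw [hP', hcard] at this
      omega
    obtain ⟨V, hVn, hV⟩ := exists_normal_complement P'
      (IsPGroup.isMulCommutative_of_card_eq_prime_sq hP') (by rw [hn4, hidx'])
    rw [hidx'] at hV
    set W := V.map M.subtype with hW
    have hWc : Nat.card W = 4 := by rw [hW, card_map_of_injective M.subtype_injective, hV]
    obtain ⟨T, hT⟩ := (IsPGroup.of_card (p := 2) (n := 2) (by rw [hWc]; norm_num) :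
      IsPGroup 2 W).exists_le_sylow
    have hTc : Nat.card (T : Subgroup G) = 2 ^ 3 :=
      card_sylow_subgroup (p := 2) (e := 3) (m := 63) (by rw [h]; norm_num) (by norm_num) T
    set N := normalizer (W : Set G)
    have hTN : (T : Subgroup G) ≤ N := by
      rw [← normal_subgroupOf_iff_le_normalizer hT]
      apply normal_of_index_eq_minFac_card
      have := (W.subgroupOf (T : Subgroup G)).card_mul_index
      rw [Nat.card_congr (subgroupOfEquivOfLe hT).toEquiv, hWc, hTc] at this
      rw [hTc, show (2 ^ 3 : ℕ).minFac = 2 from Nat.Prime.pow_minFac Nat.prime_two three_ne_zero]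
      omega
    have hMN : M ≤ N := by
      intro g hg
      refine mem_normalizer_iff.mpr fun x => ⟨?_, ?_⟩
      · rintro ⟨y, hy, rfl⟩
        exact ⟨_, hVn.conj_mem y hy ⟨g, hg⟩, rfl⟩
      · rintro ⟨y, hy, hyx⟩
        refine ⟨_, hVn.conj_mem y hy ⟨g⁻¹, inv_mem hg⟩, ?_⟩
        have : (y : G) = g * x * g⁻¹ := hyx
        simp [this, mul_assoc]
    have h72 : 72 ∣ Nat.card N := by
      have h1 : 36 ∣ Nat.card N := by
        have := card_dvd_of_le hMN
        rwa [hcard] at this
      have h2 : 8 ∣ Nat.card N := by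
        have := card_dvd_of_le hTN
        rwa [hTc] at this
      exact Nat.lcm_dvd h1 h2
    have hNtop : N ≠ ⊤ := by
      intro ht
      rcases (normalizer_eq_top_iff.mp ht).eq_bot_or_eq_top with hb | ht'
      · rw [hb, card_bot] at hWc; omega
      · rw [ht', Subgroup.card_top, h] at hWc; omega
    have h6 := eight_le_index h hNtop
    have h7 := N.card_mul_index
    rw [h] at h7
    obtain ⟨u, hu⟩ := h72
    rw [hu] at h7
    have hu0 : u ≠ 0 := fun h0 => by simp [h0] at h7
    have : 72 * 8 ≤ 72 * u * N.index := Nat.mul_le_mul (Nat.le_mul_of_pos_right 72 (by omega)) h6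
    omega
  · -- order 63: a normal subgroup of order 7
    obtain ⟨S⟩ := (inferInstance : Nonempty (Sylow 7 M))
    have hfac : Nat.card M = 7 ^ 1 * 9 := by rw [hcard]; norm_num
    have hS : Nat.card (S : Subgroup M) = 7 := by
      rw [card_sylow_subgroup hfac (by norm_num) S, pow_one]
    have hn7 : Nat.card (Sylow 7 M) = 1 := by
      have hd : Nat.card (Sylow 7 M) ∣ 9 := index_sylow hfac (by norm_num) S ▸ S.card_dvd_index
      have hm : Nat.card (Sylow 7 M) % 7 = 1 := card_sylow_modEq_one 7 M
      have := Nat.le_of_dvd (by norm_num) hd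
      interval_cases (Nat.card (Sylow 7 M)) <;> omega
    have hN := card_normalizer_mul_card_sylow S
    rw [hn7, mul_one, hfac] at hN
    obtain ⟨y, hy⟩ := exists_prime_orderOf_dvd_card' (G := (S : Subgroup M)) 7 (by rw [hS])
    set y' : G := ((y : M) : G) with hy'def
    have hy' : orderOf y' = 7 := by rw [hy'def, Subgroup.orderOf_coe, Subgroup.orderOf_coe, hy]
    have hP7 : ∀ R : Sylow 7 G, Nat.card (R : Subgroup G) = 7 := fun R => by
      rw [card_sylow_subgroup (p := 7) (e := 1) (m := 72) (by rw [h]; norm_num) (by norm_num) R,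
        pow_one]
    obtain ⟨R, hR⟩ := exists_sylow_eq_zpowers hP7 hy'
    have hSR : (S : Subgroup M).map M.subtype = (R : Subgroup G) := by
      refine (eq_of_le_of_card_ge ?_ (by rw [card_map_of_injective M.subtype_injective, hS, hP7])).symm
      rw [hR, zpowers_le]
      exact ⟨(y : M), y.2, rfl⟩
    have hle : (normalizer ((S : Subgroup M) : Set M)).map M.subtype ≤
        normalizer ((R : Subgroup G) : Set G) := hSR ▸ le_normalizer_map _
    have h63 := card_dvd_of_le hle
    rw [card_map_of_injective M.subtype_injective, hN] at h63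
    obtain ⟨j, -, hj6, hCj, -, -⟩ := exists_card_centralizer_mul hG hy' R hR
    rw [← hCj, card_centralizer_seven h hy'] at h63
    have := Nat.le_of_dvd (by norm_num) hj6
    have := Nat.le_of_dvd (Nat.mul_pos (by norm_num) (by
      rcases Nat.eq_zero_or_pos j with rfl | hj
      · simp at hj6
      · exact hj)) h63
    omega

theorem centralizer_le_sylow_three (h : Nat.card G = 504) {a : G} (ha : a ≠ 1) (P : Sylow 3 G)
    (haP : a ∈ (P : Subgroup G)) : centralizer ({a} : Set G) ≤ (P : Subgroup G) := by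
  have hG := not_comm h
  have hab : IsMulCommutative (P : Subgroup G) :=
    IsPGroup.isMulCommutative_of_card_eq_prime_sq (card_sylow_three h P)
  have hle : centralizer ({a} : Set G) ≤ normalizer ((P : Subgroup G) : Set G) := by
    intro g hg
    refine Sylow.smul_eq_iff_mem_normalizer.mp ?_
    by_contra hne
    have h1 : a ∈ (P : Subgroup G) ⊓ ((g • P : Sylow 3 G) : Subgroup G) := by
      refine ⟨haP, show a ∈ ((g • P : Sylow 3 G) : Subgroup G) from ?_⟩
      rw [Sylow.coe_subgroup_smul, Subgroup.mem_pointwise_smul_iff_inv_smul_mem, ← map_inv,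
        MulAut.smul_def, MulAut.conj_apply, inv_inv]
      rw [mem_centralizer_singleton_iff] at hg
      rwa [mul_assoc, ← hg, inv_mul_cancel_left]
    rw [inf_three_eq_bot h (Ne.symm hne), mem_bot] at h1
    exact ha h1
  have hN : Nat.card (normalizer ((P : Subgroup G) : Set G)) = 18 := by
    have := card_normalizer_mul_card_sylow P
    rw [n_three h, h] at this
    omega
  have hPC : (P : Subgroup G) ≤ centralizer ({a} : Set G) := fun g hg =>
    mem_centralizer_singleton_iff.mpr
      (congrArg Subtype.val (mul_comm' (⟨g, hg⟩ : (P : Subgroup G)) ⟨a, haP⟩))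
  intro g hg
  by_contra hgP
  apply ha
  refine eq_one_of_abelian_fixed hG P hab haP fun n hn => ?_
  have h1 := card_dvd_of_le hPC
  have h2 := card_dvd_of_le hle
  rw [card_sylow_three h] at h1
  rw [hN] at h2
  have h3 : Nat.card (centralizer ({a} : Set G)) ≠ 9 := fun h9 =>
    hgP ((eq_of_le_of_card_ge hPC (by rw [h9, card_sylow_three h]; norm_num)).symm ▸ hg)
  have h4 : centralizer ({a} : Set G) = normalizer ((P : Subgroup G) : Set G) := by
    refine eq_of_le_of_card_ge hle ?_
    rw [hN]
    obtain ⟨c, hc⟩ := h1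
    rw [hc] at h2 h3 ⊢
    have := Nat.le_of_dvd (by norm_num) h2
    have : c ≠ 0 := fun h0 => by simp [h0] at h2
    have : c ≠ 1 := fun h0 => h3 (by rw [h0]; rfl)
    omega
  rw [← h4, mem_centralizer_singleton_iff] at hn
  rw [hn, mul_inv_cancel_right]

/-- every element has order a power of 2, a power of 3, or 7 -/
theorem orderOf_cases (h : Nat.card G = 504) (g : G) :
    orderOf g ∣ 8 ∨ orderOf g ∣ 9 ∨ orderOf g = 7 := by
  have hd : orderOf g ∣ 504 := h ▸ orderOf_dvd_natCard g
  have h0 : orderOf g ≠ 0 := (orderOf_pos g).ne'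
  by_cases h7 : 7 ∣ orderOf g
  · refine Or.inr (Or.inr ?_)
    have hy : orderOf (g ^ (orderOf g / 7)) = 7 := orderOf_pow_orderOf_div h0 h7
    exact Nat.dvd_antisymm (orderOf_dvd_of_centralizer (card_centralizer_seven h hy)
      ((Commute.refl g).pow_right _).eq) h7
  by_cases h3 : 3 ∣ orderOf g
  · refine Or.inr (Or.inl ?_)
    have hy : orderOf (g ^ (orderOf g / 3)) = 3 := orderOf_pow_orderOf_div h0 h3
    obtain ⟨P, hP⟩ := (IsPGroup.of_card (n := 1) (show Nat.card (zpowers (g ^ (orderOf g / 3))) = 3 ^ 1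
      by rw [Nat.card_zpowers, hy, pow_one])).exists_le_sylow
    have hne : g ^ (orderOf g / 3) ≠ 1 := fun e => by rw [e, orderOf_one] at hy; omega
    have hg : g ∈ (P : Subgroup G) := centralizer_le_sylow_three h hne P (hP (mem_zpowers _))
      (mem_centralizer_singleton_iff.mpr ((Commute.refl g).pow_right _).eq)
    have := orderOf_dvd_natCard _ hg
    rwa [card_sylow_three h] at this
  left
  have h21 : Nat.Coprime (orderOf g) 63 := by
    rw [show 63 = 3 * 3 * 7 from rfl]
    have a3 : Nat.Coprime (orderOf g) 3 :=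
      (Nat.prime_three.coprime_iff_not_dvd.mpr h3).symm
    have a7 : Nat.Coprime (orderOf g) 7 :=
      ((Fact.out : Nat.Prime 7).coprime_iff_not_dvd.mpr h7).symm
    exact (a3.mul_right a3).mul_right a7
  exact h21.dvd_of_dvd_mul_right (show orderOf g ∣ 8 * 63 from hd)

theorem card_two_elements (h : Nat.card G = 504) :
    Nat.card {g : G // g ≠ 1 ∧ ∃ k, g ^ 2 ^ k = 1} = 63 := by
  classical
  have : Fintype G := Fintype.ofFinite G
  have h7 := card_orderOf_eq_prime (G := G) (q := 7) fun Q => by
    rw [card_sylow_subgroup (p := 7) (e := 1) (m := 72) (by rw [h]; norm_num) (by norm_num) Q,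
      pow_one]
  have hn7 : Nat.card (Sylow 7 G) = 36 := by
    obtain ⟨P⟩ := (inferInstance : Nonempty (Sylow 7 G))
    have hP : Nat.card (P : Subgroup G) = 7 := by
      rw [card_sylow_subgroup (p := 7) (e := 1) (m := 72) (by rw [h]; norm_num) (by norm_num) P,
        pow_one]
    obtain ⟨y, hy⟩ := exists_prime_orderOf_dvd_card' (G := (P : Subgroup G)) 7 (by rw [hP])
    have hy' : orderOf (y : G) = 7 := by rw [Subgroup.orderOf_coe, hy]
    have hPy : (P : Subgroup G) = zpowers (y : G) :=
      (eq_of_le_of_card_ge (zpowers_le.mpr y.2) (by rw [hP, Nat.card_zpowers, hy'])).symm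
    obtain ⟨j, hj1, hj6, hCj, -, -⟩ := exists_card_centralizer_mul (not_comm h) hy' P hPy
    have hN := card_normalizer_mul_card_sylow P
    rw [← hCj, card_centralizer_seven h hy', h] at hN
    have hdvd : Nat.card (Sylow 7 G) % 7 = 1 := card_sylow_modEq_one 7 G
    have := Nat.le_of_dvd (by norm_num) hj6
    interval_cases j <;> omega
  rw [hn7] at h7
  have h3 := TwoPoint.card_nontrivial_pElements (G := G) (p := 3) (card_sylow_three h)
    fun P Q hPQ => inf_three_eq_bot h hPQ
  rw [n_three h] at h3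
  rw [Nat.card_eq_fintype_card, Fintype.card_subtype] at h7 h3 ⊢
  have hsplit : (Finset.univ : Finset G) = insert 1
      ((Finset.univ.filter fun g : G => g ≠ 1 ∧ ∃ k, g ^ 2 ^ k = 1) ∪
      ((Finset.univ.filter fun g : G => orderOf g = 7) ∪
        (Finset.univ.filter fun g : G => g ≠ 1 ∧ ∃ k, g ^ 3 ^ k = 1))) := by
    ext g
    simp only [Finset.mem_univ, Finset.mem_insert, Finset.mem_union, Finset.mem_filter, true_and,
      true_iff]
    by_cases hg : g = 1
    · exact Or.inl hg
    rcases orderOf_cases h g with e | e | e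
    · exact Or.inr (Or.inl ⟨hg, 3, orderOf_dvd_iff_pow_eq_one.mp e⟩)
    · exact Or.inr (Or.inr (Or.inr ⟨hg, 2, orderOf_dvd_iff_pow_eq_one.mp e⟩))
    · exact Or.inr (Or.inr (Or.inl e))
  have hnot : ∀ g : G, ∀ p q k l : ℕ, p.Coprime q → g ^ p ^ k = 1 → g ^ q ^ l = 1 → g = 1 := by
    intro g p q k l hpq h1 h2
    rw [← orderOf_eq_one_iff]
    exact Nat.eq_one_of_dvd_coprimes (hpq.pow k l) (orderOf_dvd_of_pow_eq_one h1)
      (orderOf_dvd_of_pow_eq_one h2)
  have h7' : ∀ g : G, orderOf g = 7 → g ^ 7 ^ 1 = 1 := fun g hg => by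
    rw [pow_one]; exact (congrArg (g ^ ·) hg).symm.trans (pow_orderOf_eq_one g)
  have hcount := congrArg Finset.card hsplit
  rw [Finset.card_univ, ← Nat.card_eq_fintype_card, h, Finset.card_insert_of_notMem,
    Finset.card_union_of_disjoint, Finset.card_union_of_disjoint, h7, h3] at hcount
  · omega
  · rw [Finset.disjoint_filter]
    rintro g - hg7 ⟨hg1, k, hg⟩
    exact hg1 (hnot g 7 3 1 k (by norm_num) (h7' g hg7) hg)
  · rw [Finset.disjoint_union_right]
    constructor <;> rw [Finset.disjoint_filter]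
    · rintro g - ⟨hg1, k, hg⟩ hg7
      exact hg1 (hnot g 2 7 k 1 (by norm_num) hg (h7' g hg7))
    · rintro g - ⟨hg1, k, hg⟩ ⟨-, l, hgl⟩
      exact hg1 (hnot g 2 3 k l (by norm_num) hg hgl)
  · simp

/-- the Sylow 2-subgroups -/
theorem sylow_two (h : Nat.card G = 504) :
    Nat.card (Sylow 2 G) = 9 ∧ (∀ T : Sylow 2 G, ∀ t ∈ (T : Subgroup G), t * t = 1) ∧
      (∀ S T : Sylow 2 G, S ≠ T → (S : Subgroup G) ⊓ (T : Subgroup G) = ⊥) ∧
      ∀ t : G, orderOf t = 2 → Nat.card (centralizer ({t} : Set G)) = 8 := by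
  classical
  have hfac : Nat.card G = 2 ^ 3 * 63 := by rw [h]; norm_num
  have hTc : ∀ T : Sylow 2 G, Nat.card (T : Subgroup G) = 2 ^ 3 :=
    card_sylow_subgroup hfac (by norm_num)
  obtain ⟨T⟩ := (inferInstance : Nonempty (Sylow 2 G))
  -- centralisers of involutions
  have hC : ∀ t : G, orderOf t = 2 → Nat.card (centralizer ({t} : Set G)) = 8 ∧
      ∀ g : G, g ≠ 1 → (∃ k, g ^ 2 ^ k = 1) → IsConj t g := by
    intro t ht
    have hdvd : Nat.card (centralizer ({t} : Set G)) ∣ 504 := h ▸ card_subgroup_dvd_card _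
    have hno : ∀ q : ℕ, (q = 3 ∨ q = 7) → ¬ q ∣ Nat.card (centralizer ({t} : Set G)) := by
      rintro q hq hd
      have : Fact q.Prime := ⟨by rcases hq with rfl | rfl <;> norm_num⟩
      obtain ⟨a, ha⟩ := exists_prime_orderOf_dvd_card' q hd
      have ha' : orderOf (a : G) = q := by rw [Subgroup.orderOf_coe, ha]
      have hat : Commute t (a : G) := (mem_centralizer_singleton_iff.mp a.2).symm
      have hmul : orderOf (t * (a : G)) = 2 * q := by
        rw [hat.orderOf_mul_eq_mul_orderOf_of_coprime (by rw [ht, ha']; rcases hq with rfl | rfl <;> norm_num),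
          ht, ha']
      have := orderOf_cases h (t * (a : G))
      rw [hmul] at this
      rcases hq with rfl | rfl <;> norm_num at this
    have h8 : Nat.card (centralizer ({t} : Set G)) ∣ 8 := by
      have hc3 : Nat.Coprime (Nat.card (centralizer ({t} : Set G))) 3 :=
        (Nat.prime_three.coprime_iff_not_dvd.mpr (hno 3 (Or.inl rfl))).symm
      have hc7 : Nat.Coprime (Nat.card (centralizer ({t} : Set G))) 7 :=
        ((Fact.out : Nat.Prime 7).coprime_iff_not_dvd.mpr (hno 7 (Or.inr rfl))).symm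
      exact ((hc3.mul_right hc3).mul_right hc7).dvd_of_dvd_mul_right
        (show _ ∣ 8 * (3 * 3 * 7) from hdvd)
    have hcls := card_isConj_class t
    rw [h] at hcls
    let f : {g : G // IsConj t g} → {g : G // g ≠ 1 ∧ ∃ k, g ^ 2 ^ k = 1} := fun g => ⟨g.1, by
      obtain ⟨c, hc⟩ := isConj_iff.mp g.2
      have hg : orderOf (g.1) = 2 := by
        rw [← hc, ← ht]; exact orderOf_injective (MulAut.conj c).toMonoidHom (MulAut.conj c).injective t
      refine ⟨fun e => ?_, 1, ?_⟩
      · rw [e, orderOf_one] at hg; omega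
      · rw [pow_one]; exact (congrArg (g.1 ^ ·) hg).symm.trans (pow_orderOf_eq_one g.1)⟩
    have hf : Function.Injective f := fun a b e => Subtype.ext (congrArg (fun z => z.1) e)
    have hle := Nat.card_le_card_of_injective f hf
    rw [card_two_elements h] at hle
    have hge : 8 ≤ Nat.card (centralizer ({t} : Set G)) := by
      by_contra hlt
      have : Nat.card {g : G // IsConj t g} * Nat.card (centralizer ({t} : Set G)) ≤ 63 * 7 :=
        Nat.mul_le_mul hle (by omega)
      omega
    have h8' : Nat.card (centralizer ({t} : Set G)) = 8 :=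
      le_antisymm (Nat.le_of_dvd (by norm_num) h8) hge
    refine ⟨h8', fun g hg1 hg => ?_⟩
    rw [h8'] at hcls
    have hbij := (Nat.bijective_iff_injective_and_card f).mpr ⟨hf, by
      rw [card_two_elements h]; omega⟩
    obtain ⟨⟨g', hg'⟩, e⟩ := hbij.2 ⟨g, hg1, hg⟩
    have e' : g' = g := congrArg Subtype.val e
    exact e' ▸ hg'
  obtain ⟨t₀, ht₀⟩ := exists_prime_orderOf_dvd_card' (G := G) 2 (by rw [h]; norm_num)
  have hexp : ∀ S : Sylow 2 G, ∀ t ∈ (S : Subgroup G), t * t = 1 := by
    intro S t ht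
    by_cases ht1 : t = 1
    · rw [ht1, one_mul]
    · obtain ⟨k, hk⟩ := S.isPGroup' ⟨t, ht⟩
      obtain ⟨c, hc⟩ := isConj_iff.mp ((hC t₀ ht₀).2 t ht1 ⟨k, congrArg Subtype.val hk⟩)
      have : t₀ * t₀ = 1 := by
        rw [← pow_two]; exact (congrArg (t₀ ^ ·) ht₀).symm.trans (pow_orderOf_eq_one t₀)
      rw [← hc, show c * t₀ * c⁻¹ * (c * t₀ * c⁻¹) = c * (t₀ * t₀) * c⁻¹ by group, this]
      group
  have hTI : ∀ A B : Sylow 2 G, A ≠ B → (A : Subgroup G) ⊓ (B : Subgroup G) = ⊥ := by
    intro A B hAB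
    by_contra hne
    obtain ⟨⟨x, hx⟩, hx1'⟩ := (Subgroup.ne_bot_iff_exists_ne_one).mp hne
    have hx1 : x ≠ 1 := fun e => hx1' (Subtype.ext e)
    have hx2 : orderOf x = 2 := orderOf_eq_prime (by rw [pow_two]; exact hexp A x hx.1) hx1
    have key : ∀ S : Sylow 2 G, x ∈ (S : Subgroup G) → (S : Subgroup G) = centralizer {x} := by
      intro S hS
      refine eq_of_le_of_card_ge (fun s hs => mem_centralizer_singleton_iff.mpr ?_)
        (by rw [(hC x hx2).1, hTc]; norm_num)
      have e1 := hexp S _ ((S : Subgroup G).mul_mem hs hS)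
      have e2 := inv_eq_of_mul_eq_one_right e1
      rw [mul_inv_rev, inv_eq_of_mul_eq_one_right (hexp S s hs),
        inv_eq_of_mul_eq_one_right (hexp S x hS)] at e2
      exact e2.symm
    exact hAB (Sylow.ext ((key A hx.1).trans (key B hx.2).symm))
  refine ⟨?_, hexp, hTI, fun t ht => (hC t ht).1⟩
  have h2 := TwoPoint.card_nontrivial_pElements (G := G) (p := 2) hTc hTI
  rw [card_two_elements h] at h2
  omega

end Cfsg.Agent.SmallOrders.S504
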