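-- A simple group of order 504 acting on its nine Sylow 2-subgroups.
--
-- * `exists_injective_std`: its image is a fixed permutation group of degree 9
import Cfsg.Agent.Lib.SmallOrders.Order504.Local
import Cfsg.Agent.Lib.SmallOrders.TwoPoint.Coords

set_option autoImplicit false

namespace Cfsg.Agent.SmallOrders.S504

open Subgroup MulAction

/-- translations of the field of order 8, with `8` at infinity -/
def addTab : List (List ℕ) :=
  [[0, 1, 2, 3, 4, 5, 6, 7, 8], [1, 0, 3, 2, 5, 4, 7, 6, 8], [2, 3, 0, 1, 6, 7, 4, 5, 8],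
   [3, 2, 1, 0, 7, 6, 5, 4, 8], [4, 5, 6, 7, 0, 1, 2, 3, 8], [5, 4, 7, 6, 1, 0, 3, 2, 8],
   [6, 7, 4, 5, 2, 3, 0, 1, 8], [7, 6, 5, 4, 3, 2, 1, 0, 8]]

/-- multiplications by the powers of a root of `x ^ 3 = x + 1` -/
def mulTab : List (List ℕ) :=
  [[0, 1, 2, 3, 4, 5, 6, 7, 8], [0, 2, 4, 6, 3, 1, 7, 5, 8], [0, 4, 3, 7, 6, 2, 5, 1, 8],
   [0, 3, 6, 5, 7, 4, 1, 2, 8], [0, 6, 7, 1, 5, 3, 2, 4, 8], [0, 7, 5, 2, 1, 6, 4, 3, 8],
   [0, 5, 1, 4, 2, 7, 3, 6, 8]]

/-- the involution -/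
def stdTab : List ℕ := [8, 1, 5, 6, 7, 2, 3, 4, 0]

theorem check : TwoPoint.checkBool 8 7 addTab mulTab [1] stdTab = true := by decide +kernel

theorem tab_spec : ∀ i, i < 8 → ∀ j, j < 8 →
    TwoPoint.look addTab i j < 8 ∧ TwoPoint.look addTab i j % 2 = (i % 2 + j % 2) % 2 ∧
      TwoPoint.look addTab i j / 2 % 2 = (i / 2 % 2 + j / 2 % 2) % 2 ∧
      TwoPoint.look addTab i j / 4 = (i / 4 + j / 4) % 2 ∧
      (TwoPoint.look addTab i j = 0 → i = j) := by decide +kernel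

theorem mul_spec : ∀ i, i < 8 →
    TwoPoint.look mulTab 1 i < 8 ∧ TwoPoint.look mulTab 1 i % 2 = i / 4 ∧
      TwoPoint.look mulTab 1 i / 2 % 2 = (i % 2 + i / 4) % 2 ∧
      TwoPoint.look mulTab 1 i / 4 = i / 2 % 2 := by decide +kernel

/-- `e ^ i₀ f ^ i₁ g ^ i₂` for the binary digits of `i` -/
def word {G : Type*} [Group G] (e f g : G) (i : ℕ) : G :=
  e ^ (i % 2) * f ^ (i / 2 % 2) * g ^ (i / 4)

variable {G : Type*} [Group G] [Finite G] [IsSimpleGroup G]

theorem exists_injective_std (h : Nat.card G = 504) :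
    ∃ φ : G →* Equiv.Perm (Fin (8 + 1)), Function.Injective φ ∧
      φ.range = TwoPoint.stdGroup 8 7 addTab mulTab stdTab := by
  classical
  have : Fact (Nat.Prime 3) := ⟨Nat.prime_three⟩
  have : Fact (Nat.Prime 2) := ⟨Nat.prime_two⟩
  have : Fact (Nat.Prime 7) := ⟨by norm_num⟩
  obtain ⟨hn', hexp, hTI, hC⟩ := sylow_two h
  have : Fintype (Sylow 2 G) := Fintype.ofFinite _
  have hn : Fintype.card (Sylow 2 G) = 8 + 1 := by rw [← Nat.card_eq_fintype_card, hn']
  have hTc : ∀ T : Sylow 2 G, Nat.card (T : Subgroup G) = 8 :=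
    card_sylow_subgroup (p := 2) (e := 3) (m := 63) (by rw [h]; norm_num) (by norm_num)
  obtain ⟨hfaith, P, Q, S, hQP, hPo, hfree, hreg, hS, hSc, hSP, -⟩ :=
    TwoPoint.exists_frame (q := 8) (r := 7) (by norm_num) hn hTc hTI (by rw [h])
  obtain ⟨s', hs'⟩ := exists_prime_orderOf_dvd_card' (G := S) 7 (by rw [hSc])
  have hcomm : ∀ a ∈ (P : Subgroup G), ∀ b ∈ (P : Subgroup G), a * b = b * a := by
    intro a ha b hb
    have e2 := inv_eq_of_mul_eq_one_right (hexp P _ ((P : Subgroup G).mul_mem ha hb))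
    rw [mul_inv_rev, inv_eq_of_mul_eq_one_right (hexp P a ha),
      inv_eq_of_mul_eq_one_right (hexp P b hb)] at e2
    exact e2.symm
  -- no power of a generator of `S` fixes a non-trivial translation
  have hfix : ∀ x : G, x ∈ S → orderOf x = 7 → ∀ n : ℕ, 0 < n → n < 7 →
      ∀ a ∈ (P : Subgroup G), x ^ n * a * (x ^ n)⁻¹ = a → a = 1 := by
    intro x hx hxo n hn0 hn7 a ha hfix
    by_contra ha1
    have ho : orderOf a = 2 := orderOf_eq_prime (by rw [pow_two]; exact hexp P a ha) ha1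
    have h8 : orderOf (x ^ n) ∣ 8 := orderOf_dvd_of_centralizer (hC a ho) (mul_inv_eq_iff_eq_mul.mp hfix)
    have h7 : orderOf (x ^ n) = 7 := by
      rw [Nat.Coprime.orderOf_pow (y := x) (by
        rw [hxo]
        exact (Fact.out : Nat.Prime 7).coprime_iff_not_dvd.mpr fun hd => by
          have := Nat.le_of_dvd hn0 hd; omega), hxo]
    rw [h7] at h8
    norm_num at h8
  set s₀ : G := (s' : G) with hs₀
  have hs₀o : orderOf s₀ = 7 := by rw [hs₀, Subgroup.orderOf_coe, hs']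
  obtain ⟨e', he'⟩ := exists_prime_orderOf_dvd_card' (G := (P : Subgroup G)) 2 (by rw [hTc]; norm_num)
  set e : G := (e' : G) with hedef
  have heP : e ∈ (P : Subgroup G) := e'.2
  have he1 : e ≠ 1 := fun h1 => by
    have : e' = 1 := Subtype.ext h1
    rw [this, orderOf_one] at he'
    omega
  have hee : e * e = 1 := hexp P e heP
  -- the eight products
  have hword : ∀ x ∈ S, orderOf x = 7 → ∀ i, i < 8 → ∀ j, j < 8 →
      word e (x * e * x⁻¹) (x * (x * e * x⁻¹) * x⁻¹) i *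
        word e (x * e * x⁻¹) (x * (x * e * x⁻¹) * x⁻¹) j =
        word e (x * e * x⁻¹) (x * (x * e * x⁻¹) * x⁻¹) (TwoPoint.look addTab i j) := by
    intro x hx _ i hi j hj
    have hfP : x * e * x⁻¹ ∈ (P : Subgroup G) := hSP x hx e heP
    have hgP := hSP x hx _ hfP
    generalize x * (x * e * x⁻¹) * x⁻¹ = g at hgP ⊢
    generalize x * e * x⁻¹ = f at hfP ⊢
    obtain ⟨-, h0, h1, h2, -⟩ := tab_spec i hi j hj
    have p2 : ∀ (u : G), u ∈ (P : Subgroup G) → ∀ m n : ℕ, u ^ ((m + n) % 2) = u ^ m * u ^ n :=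
      fun u hu m n => by
        rw [← pow_eq_pow_mod _ (by rw [pow_two]; exact hexp P u hu), pow_add]
    simp only [word, h0, h1, h2, p2 e heP, p2 f hfP, p2 g hgP]
    have cfe : ∀ m n : ℕ, f ^ m * e ^ n = e ^ n * f ^ m := fun m n =>
      hcomm _ (pow_mem hfP m) _ (pow_mem heP n)
    have cge : ∀ m n : ℕ, g ^ m * e ^ n = e ^ n * g ^ m := fun m n =>
      hcomm _ (pow_mem hgP m) _ (pow_mem heP n)
    have cgf : ∀ m n : ℕ, g ^ m * f ^ n = f ^ n * g ^ m := fun m n =>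
      hcomm _ (pow_mem hgP m) _ (pow_mem hfP n)
    calc e ^ (i % 2) * f ^ (i / 2 % 2) * g ^ (i / 4) * (e ^ (j % 2) * f ^ (j / 2 % 2) * g ^ (j / 4))
        = e ^ (i % 2) * f ^ (i / 2 % 2) * (g ^ (i / 4) * e ^ (j % 2)) * (f ^ (j / 2 % 2) * g ^ (j / 4)) := by
          simp only [mul_assoc]
      _ = e ^ (i % 2) * (f ^ (i / 2 % 2) * e ^ (j % 2)) * (g ^ (i / 4) * f ^ (j / 2 % 2)) * g ^ (j / 4) := by
          rw [cge]; simp only [mul_assoc]
      _ = _ := by rw [cfe, cgf]; simp only [mul_assoc]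
  have hwordP : ∀ x ∈ S, ∀ i, word e (x * e * x⁻¹) (x * (x * e * x⁻¹) * x⁻¹) i ∈ (P : Subgroup G) :=
    fun x hx i => mul_mem (mul_mem (pow_mem heP _) (pow_mem (hSP x hx e heP) _))
      (pow_mem (hSP x hx _ (hSP x hx e heP)) _)
  have hwinj : ∀ x ∈ S, orderOf x = 7 → ∀ i, i < 8 → ∀ j, j < 8 →
      word e (x * e * x⁻¹) (x * (x * e * x⁻¹) * x⁻¹) i =
        word e (x * e * x⁻¹) (x * (x * e * x⁻¹) * x⁻¹) j → i = j := by
    intro x hx hxo i hi j hj hij
    have h1 := hword x hx hxo i hi j hj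
    rw [hij, hexp P _ (hwordP x hx j)] at h1
    obtain ⟨hlt, -, -, -, h0⟩ := tab_spec i hi j hj
    apply h0
    by_contra hne
    have hfix1 := hfix x hx hxo
    have hf1 : x * e * x⁻¹ ≠ 1 := fun h => he1 (conj_eq_one_iff.mp h)
    have hg1 : x * (x * e * x⁻¹) * x⁻¹ ≠ 1 := fun h => hf1 (conj_eq_one_iff.mp h)
    have hfP := hSP x hx e heP
    have hgP := hSP x hx _ hfP
    have hef : e * (x * e * x⁻¹) ≠ 1 := fun h => he1 (hfix1 1 one_pos (by norm_num) e heP (by
      rw [pow_one]; exact mul_left_cancel (h.trans hee.symm)))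
    have hfg : x * e * x⁻¹ * (x * (x * e * x⁻¹) * x⁻¹) ≠ 1 := fun h => hef (by
      have : x * (e * (x * e * x⁻¹)) * x⁻¹ = 1 := by rw [← h]; group
      exact conj_eq_one_iff.mp this)
    have heg : e * (x * (x * e * x⁻¹) * x⁻¹) ≠ 1 := fun h => he1 (hfix1 2 two_pos (by norm_num) e heP (by
      have h2 := mul_left_cancel (h.trans hee.symm)
      calc x ^ 2 * e * (x ^ 2)⁻¹ = x * (x * e * x⁻¹) * x⁻¹ := by rw [pow_two]; group
        _ = e := h2))
    have hefg : e * (x * e * x⁻¹) * (x * (x * e * x⁻¹) * x⁻¹) ≠ 1 := fun h => he1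
      (hfix1 3 three_pos (by norm_num) e heP (by
      have h2 : x * (x * e * x⁻¹) * x⁻¹ = e * (x * e * x⁻¹) :=
        mul_left_cancel (h.trans (hexp P _ (mul_mem heP hfP)).symm)
      calc x ^ 3 * e * (x ^ 3)⁻¹ = x * (x * (x * e * x⁻¹) * x⁻¹) * x⁻¹ := by
            rw [pow_succ, pow_two]; group
        _ = x * (e * (x * e * x⁻¹)) * x⁻¹ := by rw [h2]
        _ = (x * e * x⁻¹) * (x * (x * e * x⁻¹) * x⁻¹) := by group
        _ = (x * e * x⁻¹) * (e * (x * e * x⁻¹)) := by rw [h2]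
        _ = e := by
          rw [hcomm e heP _ hfP, ← mul_assoc, hexp P _ hfP, one_mul]))
    generalize TwoPoint.look addTab i j = k at h1 hlt hne
    replace h1 := h1.symm
    interval_cases k <;> simp [word, he1, hf1, hg1, hef, hfg, heg, hefg] at h1 hne
  -- normalise the generator
  obtain ⟨s, hs, hso, hrel⟩ : ∃ s ∈ S, orderOf s = 7 ∧
      s * (s * (s * e * s⁻¹) * s⁻¹) * s⁻¹ = e * (s * e * s⁻¹) := by
    have hx := s'.2
    set x : G := s₀
    have hfP := hSP x hx e heP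
    have hgP := hSP x hx _ hfP
    set f : G := x * e * x⁻¹ with hf
    set g : G := x * f * x⁻¹ with hg
    have hh := hSP x hx _ hgP
    have : Fintype (P : Subgroup G) := Fintype.ofFinite _
    let w : Fin 8 → (P : Subgroup G) := fun i => ⟨word e f g i, hwordP x hx i⟩
    have hw : Function.Bijective w := by
      refine (Fintype.bijective_iff_injective_and_card w).mpr ⟨fun a b hab => Fin.ext
        (hwinj x hx hs₀o a a.2 b b.2 (congrArg Subtype.val hab)), ?_⟩
      rw [Fintype.card_fin, ← Nat.card_eq_fintype_card, hTc]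
    obtain ⟨k, hk⟩ := hw.2 ⟨_, hh⟩
    have hk' : word e f g k = x * g * x⁻¹ := congrArg Subtype.val hk
    have hfix1 := hfix x hx hs₀o
    have hff : f * f = 1 := hexp P f hfP
    have hgg : g * g = 1 := hexp P g hgP
    have hf1 : f ≠ 1 := fun h => he1 (conj_eq_one_iff.mp h)
    have hg1 : g ≠ 1 := fun h => hf1 (conj_eq_one_iff.mp h)
    obtain ⟨k, hk8⟩ := k
    interval_cases k <;> simp [word] at hk'
    · exact absurd (conj_eq_one_iff.mp hk'.symm) hg1
    · exact absurd (hfix1 3 three_pos (by norm_num) e heP (by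
        calc x ^ 3 * e * (x ^ 3)⁻¹ = x * (x * (x * e * x⁻¹) * x⁻¹) * x⁻¹ := by
              rw [pow_succ, pow_two]; group
          _ = e := hk'.symm)) he1
    · exact absurd (hfix1 2 two_pos (by norm_num) f hfP (by
        calc x ^ 2 * f * (x ^ 2)⁻¹ = x * (x * f * x⁻¹) * x⁻¹ := by rw [pow_two]; group
          _ = f := hk'.symm)) hf1
    · exact ⟨x, hx, hs₀o, hk'.symm⟩
    · exact absurd (hfix1 1 one_pos (by norm_num) g hgP (by rw [pow_one]; exact hk'.symm)) hg1
    · -- pass to the inverse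
      refine ⟨x⁻¹, inv_mem hx, by rw [orderOf_inv, hs₀o], ?_⟩
      have he3 : e = x⁻¹ * (x⁻¹ * (x⁻¹ * e * x) * x) * x * (x⁻¹ * e * x) := by
        calc e = x⁻¹ * (x⁻¹ * (x⁻¹ * (x * g * x⁻¹) * x) * x) * x := by rw [hg, hf]; group
          _ = x⁻¹ * (x⁻¹ * (x⁻¹ * (e * g) * x) * x) * x := by rw [← hk']
          _ = _ := by rw [hg, hf]; group
      have hwe : (x⁻¹ * e * x) ∈ (P : Subgroup G) := by
        have := hSP x⁻¹ (inv_mem hx) e heP
        rwa [inv_inv] at this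
      have h4 : x⁻¹ * (x⁻¹ * (x⁻¹ * e * x) * x) * x = e * (x⁻¹ * e * x) := by
        calc x⁻¹ * (x⁻¹ * (x⁻¹ * e * x) * x) * x
            = x⁻¹ * (x⁻¹ * (x⁻¹ * e * x) * x) * x * ((x⁻¹ * e * x) * (x⁻¹ * e * x)) := by
              rw [hexp P _ hwe, mul_one]
          _ = (x⁻¹ * (x⁻¹ * (x⁻¹ * e * x) * x) * x * (x⁻¹ * e * x)) * (x⁻¹ * e * x) :=
              (mul_assoc _ _ _).symm
          _ = e * (x⁻¹ * e * x) := by rw [← he3]
      simpa only [inv_inv] using h4
    · -- `g = e f`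
      have h2 : g = e * f := by
        calc g = x⁻¹ * (x * g * x⁻¹) * x := by group
          _ = x⁻¹ * (f * g) * x := by rw [hk']
          _ = _ := by rw [hg, hf]; group
      exact absurd (hwinj x hx hs₀o 4 (by norm_num) 3 (by norm_num) (by
        show word e f g 4 = word e f g 3
        simpa [word] using h2)) (by norm_num)
    · exact absurd (hfix1 1 one_pos (by norm_num) (e * g) (mul_mem heP hgP) (by
        calc x ^ 1 * (e * g) * (x ^ 1)⁻¹ = (x * e * x⁻¹) * (x * g * x⁻¹) := by group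
          _ = f * (e * f * g) := by rw [← hk', hf]
          _ = e * g := by
            rw [← mul_assoc f, ← mul_assoc f e, hcomm f hfP e heP, mul_assoc e f f, hff, mul_one]))
        fun h1 => hwinj x hx hs₀o 5 (by norm_num) 0 (by norm_num) (by
          show word e f g 5 = word e f g 0
          simpa [word] using h1) |> fun h => absurd h (by norm_num)
  have hstab : ∀ g : G, g • P = P → g • Q = Q → g ∈ zpowers s := fun g hgP hgQ => by
    have hz : zpowers s = S := eq_of_le_of_card_ge (zpowers_le.mpr hs)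
      (by rw [Nat.card_zpowers, hso, hSc])
    rw [hz, hS]
    exact ⟨hgP, hgQ⟩
  have hs7 : s ^ 7 = 1 := (congrArg (s ^ ·) hso).symm.trans (pow_orderOf_eq_one s)
  have hfP := hSP s hs e heP
  have hgP := hSP s hs _ hfP
  refine TwoPoint.exists_injective_std_of_action addTab mulTab [1] stdTab check hn hfaith P Q hQP
    (word e (s * e * s⁻¹) (s * (s * e * s⁻¹) * s⁻¹)) s (fun i _ => hPo _ (hwordP s hs i))
    (by simp [word]) ?_ ?_ ((hS s).mp hs).1 ((hS s).mp hs).2 hs7 ?_ hstab ?_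
  · intro i hi j hj hij
    exact hwinj s hs hso i hi j hj (inv_mul_eq_one.mp
      (hfree _ (mul_mem (inv_mem (hwordP s hs i)) (hwordP s hs j)) Q hQP
        (by rw [mul_smul, ← hij, inv_smul_smul])))
  · intro i hi j hj
    exact ⟨(tab_spec i hi j hj).1, hword s hs hso i hi j hj⟩
  · intro i hi
    obtain ⟨hlt, h0, h1, h2⟩ := mul_spec i hi
    refine ⟨hlt, ?_⟩
    generalize hgv : s * (s * e * s⁻¹) * s⁻¹ = g at hrel hgP ⊢
    generalize hfv : s * e * s⁻¹ = f at hrel hfP hgv ⊢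
    have e0 : ∀ x y : G, s * (x * y) * s⁻¹ = (s * x * s⁻¹) * (s * y * s⁻¹) := fun x y => by group
    simp only [word, h0, h1, h2]
    rw [e0, e0, ← conj_pow, ← conj_pow, ← conj_pow, hfv, hgv, hrel,
      Commute.mul_pow (hcomm e heP f hfP), ← pow_eq_pow_mod (i % 2 + i / 4) (by rw [pow_two]; exact hexp P f hfP),
      pow_add]
    have cge : ∀ m n : ℕ, g ^ m * e ^ n = e ^ n * g ^ m := fun m n =>
      hcomm _ (pow_mem hgP m) _ (pow_mem heP n)
    have cgf : ∀ m n : ℕ, g ^ m * f ^ n = f ^ n * g ^ m := fun m n =>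
      hcomm _ (pow_mem hgP m) _ (pow_mem hfP n)
    have cfe : ∀ m n : ℕ, f ^ m * e ^ n = e ^ n * f ^ m := fun m n =>
      hcomm _ (pow_mem hfP m) _ (pow_mem heP n)
    calc f ^ (i % 2) * g ^ (i / 2 % 2) * (e ^ (i / 4) * f ^ (i / 4))
        = f ^ (i % 2) * (g ^ (i / 2 % 2) * e ^ (i / 4)) * f ^ (i / 4) := by simp only [mul_assoc]
      _ = (f ^ (i % 2) * e ^ (i / 4)) * (g ^ (i / 2 % 2) * f ^ (i / 4)) := by
          rw [cge]; simp only [mul_assoc]
      _ = _ := by rw [cfe, cgf]; simp only [mul_assoc]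
  · refine TwoPoint.exists_involution_swap hfaith (by rw [h]; norm_num) fun R hR => ?_
    obtain ⟨g, hg, hgQ⟩ := hreg R hR
    exact ⟨g, hPo g hg, hgQ⟩

theorem mulEquiv {H : Type*} [Group H] [Finite H] [IsSimpleGroup H] (h : Nat.card G = 504)
    (hH : Nat.card H = 504) : Nonempty (G ≃* H) :=
  TwoPoint.mulEquiv_of_injective_std (exists_injective_std h) (exists_injective_std hH)

end Cfsg.Agent.SmallOrders.S504
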